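import Cfsg.Agent.Foote.Ind
import Cfsg.Agent.KFacts.LargeE
import Cfsg.Agent.KFacts.LargeSheet
import Cfsg.Agent.KFacts.InnerCaseM
import Cfsg.Agent.KFacts.Baby.RowB_m3
import Cfsg.Agent.BM.KHAll
import Cfsg.Agent.FastGrp
import Cfsg.Agent.Prune
set_option linter.all false

section
prune_inst 0x7f00000000000000000000000000000000000000000000000000000000000000000000000000000000000000000000000000000000000000000000000000000000000000000000000000000000000000003fffffffffffffffffffffffffffbeffbdffffffff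

-- part: Foote/Row/BabyModel
section
set_option linter.all false
open scoped Cfsg.Agent.FastGrp

-- merged: Cfsg.Agent.Foote.LargeRow
section

/-!
# Foote's theorem, simple case: large extraspecial subgroups (helper29)

`cr_of_large`: `Q` a large extraspecial subgroup of `K`, `C_K(z)` irreducible on `Q/⟨z⟩`, of odd index, `C_K(z)/Q ≃ L`
simple nonabelian with `CR L`, some conjugate of `z` in `C_K(z) - Q`; then `CR K`.
-/

set_option autoImplicit false
set_option linter.style.haveILetI false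

namespace Cfsg.Agent.Foote

open Subgroup Cfsg.Agent.TwoFusion.ClosedFam Cfsg.Agent.Co2Type.Quad
open scoped commutatorElement

universe u v

theorem Cor.of_large {K : Type u} [Group K] [Finite K] {Q : Subgroup K} {z : K} {L : Type v} [Group L]
    [IsSimpleGroup L] (h : Large Q z) (hna : ∃ a b : L, a * b ≠ b * a)
    (hirr : ∀ N : Subgroup K, N ≤ Q → (∀ g : K, g * z = z * g → ∀ n ∈ N, g * n * g⁻¹ ∈ N) →
      (∀ n ∈ N, n = 1 ∨ n = z) ∨ N = Q)
    (hQ : ∃ x ∈ Q, x ≠ 1 ∧ x ≠ z)
    (hodd : Odd (centralizer ({z} : Set K)).index) (π : centralizer ({z} : Set K) →* L)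
    (hπ : Function.Surjective π) (hker : ∀ c : centralizer ({z} : Set K), π c = 1 ↔ (c : K) ∈ Q)
    (hout : ∃ k : K, (k * z * k⁻¹) * z = z * (k * z * k⁻¹) ∧ k * z * k⁻¹ ∉ Q) :
    Cor z (centralizer ({z} : Set K)) Q := by
  have hcen : ∀ x ∈ centralizer ({z} : Set K), x * z = z * x := fun x hx => mem_centralizer_singleton_iff.1 hx
  have hQC : Q ≤ centralizer ({z} : Set K) := fun x hx => mem_centralizer_singleton_iff.2 (h.comm_z x hx)
  have hQ2 : IsPGroup 2 Q := Cfsg.Agent.LargeExtra.Base.isPGroup h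
  have hnorm : centralizer ({z} : Set K) ≤ normalizer (Q : Set K) := by
    intro g hg
    rw [mem_normalizer_iff]
    intro x
    refine ⟨fun hx => h.conj_mem g (hcen g hg) x hx, fun hx => ?_⟩
    have h1 := h.conj_mem g⁻¹ (hcen _ (inv_mem hg)) _ hx
    have e : g⁻¹ * (g * x * g⁻¹) * g⁻¹⁻¹ = x := by group
    rwa [e] at h1
  exact
    { zz := h.z_sq
      z1 := h.z_ne
      syl := by
        obtain ⟨S, hS⟩ := KFacts.AutLarge.exists_sylow hodd
        have hQS := le_sylow_of_normal hQ2 hnorm S hS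
        exact ⟨S, hQS h.z_mem, fun x hx => hcen x (hS hx), fun y hy hyc =>
          KFacts.LargeE.cent_eq h (hcen y (hS hy)) (fun x hx => (hyc x (hQS hx)).symm)⟩
      cen := hcen
      perf := by
        have h1 := KFacts.LargeE.perfect h hna π hπ hker hirr hQ
        have h2 := congrArg (Subgroup.map (centralizer ({z} : Set K)).subtype) h1
        rw [_root_.commutator_def, Subgroup.map_commutator, ← MonoidHom.range_eq_map, Subgroup.range_subtype] at h2
        exact h2
      zR := h.z_mem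
      RP := hQC
      R2 := hQ2
      Rn := fun x hx r hr => h.conj_mem x (hcen x hx) r hr
      Rmax := fun B hB hB2 hBn => KFacts.LargeSheet.le_of_normal hna hπ hker hB hB2 hBn
      Rmin := fun B hB hinv => hirr B hB fun g hg => hinv g (mem_centralizer_singleton_iff.2 hg)
      cR := fun x hx hr => h.self x (hcen x hx) hr
      out1 := by
        obtain ⟨k, hk, hkQ⟩ := hout
        exact ⟨k, mem_centralizer_singleton_iff.2 hk, fun h1 => hkQ (by rw [h1]; exact h.z_mem)⟩
      out2 := by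
        obtain ⟨k, hk, hkQ⟩ := hout
        exact ⟨k, z, h.z_mem, mem_centralizer_singleton_iff.2 hk, hkQ⟩ }

/-- **large extraspecial subgroups**, with the induction hypothesis -/
theorem cr_of_large_ind {K : Type u} [Group K] [Finite K] (hG : commutator K = ⊤) {Q : Subgroup K} {z : K} {L : Type v}
    [Group L] [IsSimpleGroup L] (h : Large Q z) (hna : ∃ a b : L, a * b ≠ b * a)
    (hirr : ∀ N : Subgroup K, N ≤ Q → (∀ g : K, g * z = z * g → ∀ n ∈ N, g * n * g⁻¹ ∈ N) →
      (∀ n ∈ N, n = 1 ∨ n = z) ∨ N = Q)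
    (hQ : ∃ x ∈ Q, x ≠ 1 ∧ x ≠ z)
    (hodd : Odd (centralizer ({z} : Set K)).index) (π : centralizer ({z} : Set K) →* L)
    (hπ : Function.Surjective π) (hker : ∀ c : centralizer ({z} : Set K), π c = 1 ↔ (c : K) ∈ Q)
    (hout : ∃ k : K, (k * z * k⁻¹) * z = z * (k * z * k⁻¹) ∧ k * z * k⁻¹ ∉ Q)
    (ih : IndCR.{u} (Nat.card K)) {n r a M₀ : ℕ} (hcG : Nat.card K = 2 ^ n * M₀) (hM : Odd M₀)
    (hcR : Nat.card Q = 2 ^ r) (hn : n = r + a) (hnum : NumOK a M₀) : CR K :=
  cr_row hG (Cor.of_large h hna hirr hQ hodd π hπ hker hout) (e := 0) (Or.inl rfl)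
    (by rw [pow_zero, relIndex_self]) (KFacts.InnerCaseM.normal_of hπ hker) ih hcG hM hcR (by omega) hnum

end Cfsg.Agent.Foote

end

-- merged: Cfsg.Agent.Foote.Row.BabyModel
section

/-!
# Foote's theorem, simple case: the row `B`, for the model (helper29)
-/

set_option autoImplicit false

namespace Cfsg.Agent.Foote.Row.Baby

open Subgroup Cfsg Cfsg.Agent.BabyM Cfsg.Agent.BabyM.Model Cfsg.Agent.BabyU.ClosModel
open Cfsg.Agent.BabyU.ClosLane Cfsg.Agent.KFacts

theorem cr_model (hG : commutator Inst.M.G = ⊤) (ih : IndCR.{0} (Nat.card Inst.M.G)) : CR Inst.M.G := by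
  have := A.finite_G
  have := A.grp.simple
  obtain ⟨π, hπ, hker⟩ := Baby.Inst.quot A
  have hcard : Nat.card (PP Inst.M) = 2 ^ 23 := by
    rw [← A.grp.Q_card]
    exact Nat.card_congr (Subgroup.subgroupOfEquivOfLe (A.grp.Q_le.trans A.C_le_G)).toEquiv
  have hne : ∃ x ∈ PP Inst.M, x ≠ 1 ∧ x ≠ zz A := by
    obtain ⟨n, h1, h2, -⟩ := Baby.Inst.gen A
    refine ⟨_, h1, fun h3 => ?_, h2⟩
    apply (Baby.Inst.large A).z_ne
    calc zz A = n⁻¹ * (n * zz A * n⁻¹) * n := by group
      _ = 1 := by rw [h3]; group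
  refine cr_of_large_ind hG (Baby.Inst.large A) (Baby.Inst.nonab A) (Baby.Inst.irr' A) hne (Baby.Inst.odd_index A)
    π hπ hker Baby.Inst.out ih (n := 41) (r := 23) (a := 18) (M₀ := 1889375872099856765625) ?_ (by decide) hcard
    (by norm_num) (by decide)
  rw [A.card_G]
  norm_num

end Cfsg.Agent.Foote.Row.Baby

end
end

-- part: Foote/Row/Baby
section
set_option linter.all false

/-!
# Foote's theorem, simple case: the row `B` (helper29)
-/

set_option autoImplicit false

namespace Cfsg.Agent.Foote.Row.Baby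

open Subgroup Cfsg Cfsg.Agent.BabyM Cfsg.Agent.BabyM.Model Cfsg.Agent.BabyU.ClosModel
open Cfsg.Agent.BabyU.ClosLane Cfsg.Agent.KFacts

end Cfsg.Agent.Foote.Row.Baby
end
end
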